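import Cfsg.Agent.RuD.Letters
import Cfsg.Agent.RuLat.Main

/-!
# Elements of order three and five of the Rudvalis group

An extraspecial subgroup `⟨a, b⟩` of order 27 whose centre commutes with an element of order five; the relations are
evaluated in the kernel at the four base points.
-/

set_option autoImplicit false
set_option maxRecDepth 100000
set_option exponentiation.threshold 5000

namespace Cfsg.Agent.H441.GLAmal.Ru

open Cfsg.Agent.Lib Cfsg.Agent.Lib.BitNet Cfsg.Agent.SporadicB Cfsg.Agent.SporadicB.RuData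
open Cfsg.Agent.SporadicB.RuOrder
open Cfsg.Agent.RuD.Data Cfsg.Agent.RuD.Letters Cfsg.Agent.SporRec.TCUpperCert Cfsg.Agent.SporRec.R3.Kernel

/-- an extraspecial group of order 27 whose centre commutes with an element of order five -/
def Five (X : Type*) [Group X] : Prop :=
  ∃ a b c u : X, a ^ 3 = 1 ∧ b ^ 3 = 1 ∧ a * b = c * (b * a) ∧ c ≠ 1 ∧ c * a = a * c ∧ c * b = b * c ∧ c ^ 3 = 1 ∧
    u ^ 5 = 1 ∧ u ≠ 1 ∧ u * c = c * u

theorem Five.of_equiv {X Y : Type*} [Group X] [Group Y] (e : Y ≃* X) (h : Five Y) : Five X := by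
  obtain ⟨a, b, c, u, h1, h2, h3, h4, h5, h6, h7, h8, h9, h10⟩ := h
  refine ⟨e a, e b, e c, e u, ?_, ?_, ?_, ?_, ?_, ?_, ?_, ?_, ?_, ?_⟩
  · rw [← map_pow, h1, map_one]
  · rw [← map_pow, h2, map_one]
  · rw [← map_mul, h3, map_mul, map_mul]
  · exact fun h => h4 (e.injective (h.trans (map_one e).symm))
  · rw [← map_mul, h5, map_mul]
  · rw [← map_mul, h6, map_mul]
  · rw [← map_pow, h7, map_one]
  · rw [← map_pow, h8, map_one]
  · exact fun h => h9 (e.injective (h.trans (map_one e).symm))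
  · rw [← map_mul, h10, map_mul]

/-- the first element of order three -/
def wA : List ℕ := [1, 3, 5, 8, 1, 3, 5, 7, 0, 4, 5, 1, 7, 6]
/-- the second element of order three -/
def wB : List ℕ := [3, 5, 8, 1, 3, 5, 7, 0, 4, 5, 1, 7]
/-- the element of order five -/
def wU : List ℕ := [7, 6, 6, 2, 7, 7, 7, 1, 2, 6, 3, 3]

theorem chk : chkRel [[8, 8, 8], wA ++ (wA ++ wA), wB ++ (wB ++ wB), wA ++ (wB ++ (wA ++ (wA ++ (wB ++ (wB ++ [4]))))),
    [8] ++ (wA ++ ([4] ++ (wA ++ wA))), [8] ++ (wB ++ ([4] ++ (wB ++ wB))),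
    wU ++ (wU ++ (wU ++ (wU ++ wU))), [8] ++ (wU ++ ([4] ++ (wU ++ (wU ++ (wU ++ wU)))))] = true := by
  decide +kernel

theorem evC : Nat.beq (evalK [8] 0) 0 = false := by decide +kernel
theorem evU : Nat.beq (evalK wU 0) 0 = false := by decide +kernel

theorem lv4 : lv ml 4 = D := rfl
theorem lv8 : lv ml 8 = D⁻¹ := rfl
theorem wprod4 : wprod ml [4] = D := by rw [wprod_cons, wprod_nil, mul_one, lv4]
theorem wprod8 : wprod ml [8] = D⁻¹ := by rw [wprod_cons, wprod_nil, mul_one, lv8]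

theorem ne_one_of_ev {w : List ℕ} (h : Nat.beq (evalK w 0) 0 = false) : wprod ml w ≠ 1 := by
  intro h1
  have e0 : (((1 : RuOrder.H) : Equiv.Perm (Fin 4060)) b1 : ℕ) = 0 := rfl
  rw [← h1, evalK_eq] at e0
  change evalK w 0 = 0 at e0
  rw [e0] at h
  exact absurd h (by decide)

theorem five_H : Five RuOrder.H := by
  have rel := rel_of_chk chk
  obtain ⟨A, hA⟩ : ∃ A : RuOrder.H, A = wprod ml wA := ⟨_, rfl⟩
  obtain ⟨B, hB⟩ : ∃ B : RuOrder.H, B = wprod ml wB := ⟨_, rfl⟩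
  obtain ⟨U, hU⟩ : ∃ U : RuOrder.H, U = wprod ml wU := ⟨_, rfl⟩
  have hA3 : A ^ 3 = 1 := by
    have h1 := rel (wA ++ (wA ++ wA)) (by simp)
    rw [wprod_append, wprod_append, ← hA] at h1
    rw [pow_succ, pow_two, mul_assoc]
    exact h1
  have hB3 : B ^ 3 = 1 := by
    have h1 := rel (wB ++ (wB ++ wB)) (by simp)
    rw [wprod_append, wprod_append, ← hB] at h1
    rw [pow_succ, pow_two, mul_assoc]
    exact h1
  have hC3 : (D⁻¹ : RuOrder.H) ^ 3 = 1 := by
    have h1 := rel [8, 8, 8] (by simp)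
    rw [wprod_cons, wprod_cons, wprod8, lv8] at h1
    rw [pow_succ, pow_two, mul_assoc]
    exact h1
  have hU5 : U ^ 5 = 1 := by
    have h1 := rel (wU ++ (wU ++ (wU ++ (wU ++ wU)))) (by simp)
    rw [wprod_append, wprod_append, wprod_append, wprod_append, ← hU] at h1
    rw [pow_succ, pow_succ, pow_succ, pow_two, mul_assoc, mul_assoc, mul_assoc]
    exact h1
  have hAB : A * B = D⁻¹ * (B * A) := by
    have h1 := rel (wA ++ (wB ++ (wA ++ (wA ++ (wB ++ (wB ++ [4])))))) (by simp)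
    rw [wprod_append, wprod_append, wprod_append, wprod_append, wprod_append, wprod_append, wprod4, ← hA, ← hB] at h1
    have a2 : A * A = A⁻¹ := by
      rw [eq_inv_iff_mul_eq_one, ← hA3, pow_succ, pow_two]
    have b2 : B * B = B⁻¹ := by
      rw [eq_inv_iff_mul_eq_one, ← hB3, pow_succ, pow_two]
    have h2 : A * B * (A * A) * (B * B) * D = 1 := by
      rw [← h1]; simp only [mul_assoc]
    rw [a2, b2] at h2
    have h3 : A * B = (A * B * A⁻¹ * B⁻¹ * D) * (D⁻¹ * (B * A)) := by group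
    rw [h3, h2, one_mul]
  have hDA : D⁻¹ * A = A * D⁻¹ := by
    have h1 := rel ([8] ++ (wA ++ ([4] ++ (wA ++ wA)))) (by simp)
    rw [wprod_append, wprod_append, wprod_append, wprod_append, wprod8, wprod4, ← hA] at h1
    have a2 : A * A = A⁻¹ := by
      rw [eq_inv_iff_mul_eq_one, ← hA3, pow_succ, pow_two]
    rw [a2] at h1
    have h3 : D⁻¹ * A = (D⁻¹ * (A * (D * A⁻¹))) * (A * D⁻¹) := by group
    rw [h3, h1, one_mul]
  have hDB : D⁻¹ * B = B * D⁻¹ := by
    have h1 := rel ([8] ++ (wB ++ ([4] ++ (wB ++ wB)))) (by simp)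
    rw [wprod_append, wprod_append, wprod_append, wprod_append, wprod8, wprod4, ← hB] at h1
    have a2 : B * B = B⁻¹ := by
      rw [eq_inv_iff_mul_eq_one, ← hB3, pow_succ, pow_two]
    rw [a2] at h1
    have h3 : D⁻¹ * B = (D⁻¹ * (B * (D * B⁻¹))) * (B * D⁻¹) := by group
    rw [h3, h1, one_mul]
  have hDU : D⁻¹ * U = U * D⁻¹ := by
    have h1 := rel ([8] ++ (wU ++ ([4] ++ (wU ++ (wU ++ (wU ++ wU)))))) (by simp)
    rw [wprod_append, wprod_append, wprod_append, wprod_append, wprod_append, wprod_append, wprod8, wprod4, ← hU] at h1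
    have a2 : U * (U * (U * U)) = U⁻¹ := by
      rw [eq_inv_iff_mul_eq_one, ← hU5]
      simp only [pow_succ, pow_zero, one_mul, mul_assoc]
    rw [a2] at h1
    have h3 : D⁻¹ * U = (D⁻¹ * (U * (D * U⁻¹))) * (U * D⁻¹) := by group
    rw [h3, h1, one_mul]
  have hD1 : (D⁻¹ : RuOrder.H) ≠ 1 := by
    rw [← wprod8]; exact ne_one_of_ev evC
  have hU1 : U ≠ 1 := by
    rw [hU]; exact ne_one_of_ev evU
  exact ⟨A, B, D⁻¹, U, hA3, hB3, hAB, hD1, hDA, hDB, hC3, hU5, hU1, hDU.symm⟩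

theorem five {X : Type*} [Group X] (h : Cfsg.Spor.IsoRu X) : Five X := by
  obtain ⟨e⟩ := h
  have e' : RuOrder.H ≃* X := (RuLat.Main.equiv.symm).trans e.symm
  exact five_H.of_equiv e'

end Cfsg.Agent.H441.GLAmal.Ru
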