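import Mathlib

/-!
# Groups of shape `3² : GL₂(3)` inside a group

`Side A E` : `E` is an elementary abelian normal subgroup of order 9 of `A`, self-centralizing in `A`, and `|A| = 432`.
`Side.trans` : `A` is transitive on the pairs of generators of `E`.
-/

set_option autoImplicit false

namespace Cfsg.Agent.H441.GLAmal

open Subgroup

variable {G : Type*} [Group G]

/-- `E` is a normal self-centralizing elementary abelian subgroup of order 9 of `A` and `|A| = 432`. -/
structure Side (A E : Subgroup G) : Prop where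
  le : E ≤ A
  conj_mem : ∀ a ∈ A, ∀ e ∈ E, a * e * a⁻¹ ∈ E
  comm : ∀ x ∈ E, ∀ y ∈ E, x * y = y * x
  cube : ∀ x ∈ E, x ^ 3 = 1
  cardE : Nat.card E = 9
  cent : ∀ a ∈ A, (∀ e ∈ E, a * e = e * a) → a ∈ E
  cardA : Nat.card A = 432

theorem orderOf_three {x : G} (h : x ^ 3 = 1) (h1 : x ≠ 1) : orderOf x = 3 :=
  orderOf_eq_prime h h1

theorem card_zpowers_three {x : G} (h : x ^ 3 = 1) (h1 : x ≠ 1) : Nat.card (zpowers x) = 3 := by
  rw [Nat.card_zpowers, orderOf_three h h1]

/-- a subgroup of a group of order 9 and exponent 3 generated by two independent elements -/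
theorem closure_eq {E : Subgroup G} (hc : Nat.card E = 9) (h3 : ∀ x ∈ E, x ^ 3 = 1) {z e : G} (hz : z ∈ E)
    (he : e ∈ E) (hz1 : z ≠ 1) (hez : e ∉ zpowers z) : closure {z, e} = E := by
  have hfin : Finite E := Nat.finite_of_card_ne_zero (by rw [hc]; norm_num)
  have hle : closure {z, e} ≤ E := by
    rw [closure_le]
    rintro x (rfl | rfl)
    · exact hz
    · exact he
  have hz3 := card_zpowers_three (h3 z hz) hz1
  have hzle : zpowers z ≤ closure {z, e} := by
    rw [zpowers_le]
    exact subset_closure (by simp)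
  have hfin2 : Finite (closure {z, e} : Subgroup G) := Finite.Set.subset (E : Set G) hle
  have h1 : Nat.card (closure {z, e} : Subgroup G) ∣ 9 := hc ▸ card_dvd_of_le hle
  have h2 : Nat.card (closure {z, e} : Subgroup G) ≠ 3 := by
    intro h
    have h4 : zpowers z = closure {z, e} := by
      apply eq_of_le_of_card_ge hzle
      rw [h, hz3]
    apply hez
    rw [h4]
    exact subset_closure (by simp)
  have h3' : 3 ∣ Nat.card (closure {z, e} : Subgroup G) := hz3 ▸ card_dvd_of_le hzle
  have h5 : Nat.card (closure {z, e} : Subgroup G) = 9 := by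
    have h6 := Nat.le_of_dvd (by norm_num) h1
    interval_cases h7 : Nat.card (closure {z, e} : Subgroup G) <;> omega
  exact eq_of_le_of_card_ge hle (by rw [h5, hc])

theorem comm_closure {E : Subgroup G} {z e : G} (h : closure {z, e} = E) {a : G} (h1 : a * z = z * a)
    (h2 : a * e = e * a) : ∀ x ∈ E, a * x = x * a := by
  intro x hx
  rw [← h] at hx
  have : closure {z, e} ≤ centralizer {a} := by
    rw [closure_le]
    rintro y (rfl | rfl)
    · exact mem_centralizer_singleton_iff.2 h1.symm
    · exact mem_centralizer_singleton_iff.2 h2.symm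
  exact (mem_centralizer_singleton_iff.1 (this hx)).symm

/-- **transitivity** on pairs of generators of `E` -/
theorem Side.trans {A E : Subgroup G} (h : Side A E) {z e u v : G} (hz : z ∈ E) (he : e ∈ E) (hz1 : z ≠ 1)
    (hez : e ∉ zpowers z) (hu : u ∈ E) (hv : v ∈ E) (hu1 : u ≠ 1) (hvu : v ∉ zpowers u) :
    ∃ a ∈ A, a * z * a⁻¹ = u ∧ a * e * a⁻¹ = v := by
  classical
  have hfE : Finite E := Nat.finite_of_card_ne_zero (by rw [h.cardE]; norm_num)
  have hfA : Finite A := Nat.finite_of_card_ne_zero (by rw [h.cardA]; norm_num)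
  let _ : Fintype E := Fintype.ofFinite E
  let _ : Fintype A := Fintype.ofFinite A
  have hcE : Fintype.card E = 9 := by rw [← Nat.card_eq_fintype_card, h.cardE]
  have hcA : Fintype.card A = 432 := by rw [← Nat.card_eq_fintype_card, h.cardA]
  have hcl := closure_eq h.cardE h.cube hz he hz1 hez
  let P : Finset (E × E) := Finset.univ.filter fun p => (p.1 : G) ≠ 1 ∧ (p.2 : G) ∉ zpowers (p.1 : G)
  let f : A → E × E := fun a => (⟨a * z * (a : G)⁻¹, h.conj_mem a a.2 z hz⟩, ⟨a * e * (a : G)⁻¹, h.conj_mem a a.2 e he⟩)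
  have hP : P.card ≤ 6 * 8 := by
    refine le_trans (Finset.card_le_mul_card_image (f := Prod.fst) P 6 ?_) (Nat.mul_le_mul_left 6 ?_)
    · intro x hx
      obtain ⟨p, hp, rfl⟩ := Finset.mem_image.1 hx
      have hp' := (Finset.mem_filter.1 hp).2
      have h3 : Nat.card (zpowers (p.1 : G)) = 3 := card_zpowers_three (h.cube _ p.1.2) hp'.1
      -- the fibre injects into the complement
      have hsub : (Finset.filter (fun x => x.1 = p.1) P).card ≤
          (Finset.univ.filter fun y : E => (y : G) ∉ zpowers (p.1 : G)).card := by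
        apply Finset.card_le_card_of_injOn Prod.snd
        · intro q hq
          rw [Finset.coe_filter, Set.mem_ofPred_eq] at hq
          have h5 := (Finset.mem_filter.1 hq.1).2.2
          rw [hq.2] at h5
          simpa using h5
        · intro q hq q' hq' hqq
          rw [Finset.coe_filter, Set.mem_ofPred_eq] at hq hq'
          exact Prod.ext (hq.2.trans hq'.2.symm) hqq
      refine hsub.trans ?_
      have h6 := Finset.card_filter_add_card_filter_not (s := (Finset.univ : Finset E)) (p := fun y : E => (y : G) ∈ zpowers (p.1 : G))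
      rw [Finset.card_univ, hcE] at h6
      have h7 : 3 ≤ (Finset.univ.filter fun y : E => (y : G) ∈ zpowers (p.1 : G)).card := by
        have hfz : Finite (zpowers (p.1 : G)) := Nat.finite_of_card_ne_zero (by rw [h3]; norm_num)
        let _ : Fintype (zpowers (p.1 : G)) := Fintype.ofFinite _
        rw [← h3, Nat.card_eq_fintype_card, ← Finset.card_univ]
        refine Finset.card_le_card_of_injOn (fun y => (⟨y.1, (zpowers_le.2 p.1.2) y.2⟩ : E)) ?_ ?_
        · intro y _
          simp
        · intro y _ y' _ hyy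
          exact Subtype.ext (congrArg (fun t : E => (t : G)) hyy)
      omega
    · have h8 : P.image Prod.fst ⊆ Finset.univ.erase (1 : E) := by
        intro x hx
        obtain ⟨p, hp, rfl⟩ := Finset.mem_image.1 hx
        have hp' := (Finset.mem_filter.1 hp).2
        rw [Finset.mem_erase]
        refine ⟨fun h9 => hp'.1 ?_, Finset.mem_univ _⟩
        rw [h9]
        rfl
      have h9 := Finset.card_le_card h8
      rw [Finset.card_erase_of_mem (Finset.mem_univ _), Finset.card_univ, hcE] at h9
      exact h9
  have hfib : Fintype.card A ≤ 9 * (Finset.univ.image f).card := by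
    rw [← Finset.card_univ]
    refine Finset.card_le_mul_card_image (f := f) Finset.univ 9 ?_
    intro x hx
    obtain ⟨b, -, rfl⟩ := Finset.mem_image.1 hx
    rw [← hcE, ← Finset.card_univ]
    have hmem : ∀ a : A, f a = f b → (b : G)⁻¹ * a ∈ E := by
      intro a hab
      have h1 : (a : G) * z * (a : G)⁻¹ = b * z * (b : G)⁻¹ := congrArg (fun t : E × E => (t.1 : G)) hab
      have h2 : (a : G) * e * (a : G)⁻¹ = b * e * (b : G)⁻¹ := congrArg (fun t : E × E => (t.2 : G)) hab
      apply h.cent _ (A.mul_mem (A.inv_mem b.2) a.2)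
      apply comm_closure hcl
      · calc (b : G)⁻¹ * a * z = (b : G)⁻¹ * ((a : G) * z * (a : G)⁻¹) * a := by group
          _ = (b : G)⁻¹ * (b * z * (b : G)⁻¹) * a := by rw [h1]
          _ = z * ((b : G)⁻¹ * a) := by group
      · calc (b : G)⁻¹ * a * e = (b : G)⁻¹ * ((a : G) * e * (a : G)⁻¹) * a := by group
          _ = (b : G)⁻¹ * (b * e * (b : G)⁻¹) * a := by rw [h2]
          _ = e * ((b : G)⁻¹ * a) := by group
    refine Finset.card_le_card_of_injOn
      (fun a => if ha : f a = f b then (⟨(b : G)⁻¹ * a, hmem a ha⟩ : E) else 1) ?_ ?_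
    · intro a _
      simp
    · intro a ha a' ha' haa
      rw [Finset.coe_filter, Set.mem_ofPred_eq] at ha ha'
      simp only [ha.2, ha'.2, dif_pos] at haa
      have := congrArg (fun t : E => (t : G)) haa
      exact Subtype.ext (mul_left_cancel this)
  have hsub : Finset.univ.image f ⊆ P := by
    intro x hx
    obtain ⟨a, -, rfl⟩ := Finset.mem_image.1 hx
    rw [Finset.mem_filter]
    refine ⟨Finset.mem_univ _, ?_, ?_⟩
    · intro h1
      apply hz1
      have h2 : (a : G) * z * (a : G)⁻¹ = 1 := h1
      have h3 : (a : G) * z = a := by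
        rw [mul_inv_eq_one] at h2
        exact h2
      exact mul_eq_left.1 h3
    · rintro ⟨k, hk⟩
      apply hez
      refine ⟨k, ?_⟩
      have h2 : ((a : G) * z * (a : G)⁻¹) ^ k = (a : G) * e * (a : G)⁻¹ := hk
      rw [conj_zpow] at h2
      exact mul_left_cancel (mul_right_cancel h2)
  have heq : Finset.univ.image f = P := by
    apply Finset.eq_of_subset_of_card_le hsub
    rw [hcA] at hfib
    omega
  have hmem : ((⟨u, hu⟩, ⟨v, hv⟩) : E × E) ∈ Finset.univ.image f := by
    rw [heq, Finset.mem_filter]
    exact ⟨Finset.mem_univ _, hu1, hvu⟩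
  obtain ⟨a, -, ha⟩ := Finset.mem_image.1 hmem
  exact ⟨a, a.2, congrArg (fun t : E × E => (t.1 : G)) ha, congrArg (fun t : E × E => (t.2 : G)) ha⟩

end Cfsg.Agent.H441.GLAmal
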